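import Cfsg.Agent.Lib.OverLat.V16.Common
import Cfsg.Agent.Lib.OverLat.V16.Amb


set_option autoImplicit false
set_option linter.unusedSectionVars false
set_option maxRecDepth 1000000

namespace Cfsg.Agent.Lib.OverLat.V16.M00

open Cfsg.Agent.Lib.PermComp.Core Cfsg.Agent.Lib.OverLat.Core Cfsg.Agent.Lib.OverLat.Basic Cfsg.Agent.Lib.OverLat.V16.Common

def T : List Nat := [nat_lit 0xcb8f9eda61253470, nat_lit 0xb27ed4183af65c90]
def prog : List (Nat × Nat × Nat) := [(nat_lit 1, nat_lit 1, nat_lit 0), (nat_lit 1, nat_lit 1, nat_lit 0), (nat_lit 0, nat_lit 2, nat_lit 2), (nat_lit 0, nat_lit 0, nat_lit 4), (nat_lit 0, nat_lit 0, nat_lit 5), (nat_lit 0, nat_lit 0, nat_lit 6), (nat_lit 0, nat_lit 0, nat_lit 6), (nat_lit 0, nat_lit 6, nat_lit 6), (nat_lit 0, nat_lit 0, nat_lit 1), (nat_lit 0, nat_lit 10, nat_lit 10), (nat_lit 0, nat_lit 0, nat_lit 11), (nat_lit 0, nat_lit 0, nat_lit 12), (nat_lit 0, nat_lit 0, nat_lit 12), (nat_lit 0, nat_lit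 0, nat_lit 13), (nat_lit 0, nat_lit 0, nat_lit 15), (nat_lit 0, nat_lit 0, nat_lit 16), (nat_lit 0, nat_lit 0, nat_lit 17), (nat_lit 0, nat_lit 0, nat_lit 17), (nat_lit 0, nat_lit 0, nat_lit 19), (nat_lit 0, nat_lit 0, nat_lit 20), (nat_lit 0, nat_lit 12, nat_lit 18), (nat_lit 0, nat_lit 0, nat_lit 20), (nat_lit 0, nat_lit 0, nat_lit 2), (nat_lit 0, nat_lit 13, nat_lit 23), (nat_lit 0, nat_lit 0, nat_lit 24), (nat_lit 0, nat_lit 0, nat_lit 26), (nat_lit 0, nat_lit 0, nat_lit 27), (nat_lit 0, nat_lit 0, nat_lit 27), (nat_lit 0, nat_lit 0, nat_lit 29), (nat_lit 0, nat_lit 0, nat_lit 30), (nat_lit 0, nat_lit 0, nat_lit 31), (nat_lit 0, nat_lit 0, nat_lit 31), (nat_lit 0, nat_lit 0, nat_lit 33), (nat_lit 0, nat_lit 11, nat_lit 32), (nat_lit 0, nat_lit 0, nat_lit 1), (nat_lit 0, nat_lit 27, nat_lit 10), (nat_lit 1, nat_lit 27, nat_lit 0), (nat_lit 1, nat_lit 14, nat_lit 0), (nat_lit 1, nat_lit 2, nat_lit 0), (nat_lit 0, nat_lit 4, nat_lit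 3), (nat_lit 0, nat_lit 0, nat_lit 5), (nat_lit 0, nat_lit 0, nat_lit 6), (nat_lit 0, nat_lit 0, nat_lit 19), (nat_lit 0, nat_lit 0, nat_lit 20), (nat_lit 0, nat_lit 0, nat_lit 21), (nat_lit 0, nat_lit 0, nat_lit 36), (nat_lit 0, nat_lit 0, nat_lit 11), (nat_lit 0, nat_lit 0, nat_lit 11), (nat_lit 0, nat_lit 0, nat_lit 13), (nat_lit 0, nat_lit 13, nat_lit 40), (nat_lit 0, nat_lit 0, nat_lit 41), (nat_lit 0, nat_lit 0, nat_lit 15), (nat_lit 0, nat_lit 0, nat_lit 29), (nat_lit 0, nat_lit 0, nat_lit 18), (nat_lit 0, nat_lit 0, nat_lit 31), (nat_lit 0, nat_lit 0, nat_lit 19), (nat_lit 0, nat_lit 19, nat_lit 17), (nat_lit 0, nat_lit 0, nat_lit 1), (nat_lit 0, nat_lit 8, nat_lit 23), (nat_lit 0, nat_lit 0, nat_lit 24), (nat_lit 0, nat_lit 3, nat_lit 22), (nat_lit 0, nat_lit 0, nat_lit 1), (nat_lit 1, nat_lit 13, nat_lit 0), (nat_lit 1, nat_lit 5, nat_lit 0), (nat_lit 1, nat_lit 2, nat_lit 0), (nat_lit 0, nat_lit 3, nat_lit 3), (nat_lit 0,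 nat_lit 0, nat_lit 8), (nat_lit 0, nat_lit 0, nat_lit 5), (nat_lit 0, nat_lit 0, nat_lit 10), (nat_lit 0, nat_lit 0, nat_lit 20), (nat_lit 0, nat_lit 0, nat_lit 21), (nat_lit 0, nat_lit 0, nat_lit 13), (nat_lit 0, nat_lit 0, nat_lit 14), (nat_lit 0, nat_lit 10, nat_lit 0), (nat_lit 0, nat_lit 12, nat_lit 25), (nat_lit 0, nat_lit 0, nat_lit 13), (nat_lit 0, nat_lit 0, nat_lit 14), (nat_lit 0, nat_lit 0, nat_lit 19), (nat_lit 0, nat_lit 14, nat_lit 0), (nat_lit 0, nat_lit 30, nat_lit 30), (nat_lit 0, nat_lit 0, nat_lit 31), (nat_lit 0, nat_lit 0, nat_lit 23), (nat_lit 0, nat_lit 0, nat_lit 33), (nat_lit 0, nat_lit 0, nat_lit 21), (nat_lit 0, nat_lit 0, nat_lit 35), (nat_lit 0, nat_lit 0, nat_lit 27), (nat_lit 0, nat_lit 0, nat_lit 28), (nat_lit 0, nat_lit 0, nat_lit 29), (nat_lit 0, nat_lit 0, nat_lit 39), (nat_lit 0, nat_lit 24, nat_lit 24), (nat_lit 0, nat_lit 0, nat_lit 1)]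
def lev0 : Lev := ⟨nat_lit 1, [nat_lit 0x5476ba98dcfe3210, nat_lit 0x4567ba98cdef3210, nat_lit 0xcdefba9845673210, nat_lit 0xba98fedc76543210, nat_lit 0x9823cd76fe45ab10, nat_lit 0xcb8f9eda61253470], [(nat_lit 7, nat_lit 0xcb8f9eda61253470, nat_lit 1), (nat_lit 13, nat_lit 0x5476ba98dcfe3210, nat_lit 7), (nat_lit 12, nat_lit 0x4567ba98cdef3210, nat_lit 7), (nat_lit 4, nat_lit 0xcdefba9845673210, nat_lit 7), (nat_lit 15, nat_lit 0x9823cd76fe45ab10, nat_lit 7), (nat_lit 6, nat_lit 0xcb8f9eda61253470, nat_lit 7), (nat_lit 14, nat_lit 0xcdefba9845673210, nat_lit 13), (nat_lit 9, nat_lit 0xba98fedc76543210, nat_lit 13), (nat_lit 2, nat_lit 0x9823cd76fe45ab10, nat_lit 13), (nat_lit 8, nat_lit 0xcb8f9eda61253470, nat_lit 13), (nat_lit 3, nat_lit 0x9823cd76fe45ab10, nat_lit 12), (nat_lit 5, nat_lit 0x9823cd76fe45ab10, nat_lit 4), (nat_lit 11, nat_lit 0xba98fedc76543210, nat_lit 15), (nat_lit 10, nat_lit 0xba98fedc76543210, nat_lit 14)], nat_lit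 0xfffe, nat_lit 0x3c69782de1b4a5f05b86974af12c3de06b85947ac12f3ed07b84956ad12e3fc0386d7c29a1f4e5b05fc6d74eb12839a06fc5d47e812b3a9019a2d56ef74c3b80cb8f9eda61253470f9acdb8e174235609c63728d41beaf50fb8c9dea51263740fc6574ed21b8a930ec6475fd31b9a820fedcba98765432100000000000000000, nat_lit 0x178e53cabd24f9607124e8bdacf935604217e8bd9fca35602471e8bdf9ac356053ca178ebd24f960e8bd7124acf93560e8bd42179fca356078b42de169a53cf0ca9fe8bd17423560f8bcade961253470248e53f9bd17ca60f9ace8bd24713560f98e5324bdca17609f8e5342bdac7160fedcba98765432100000000000000000⟩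
def lev1 : Lev := ⟨nat_lit 2, [nat_lit 0x5476ba98dcfe3210, nat_lit 0x4567ba98cdef3210, nat_lit 0xcdefba9845673210, nat_lit 0xba98fedc76543210, nat_lit 0x9823cd76fe45ab10], [(nat_lit 11, nat_lit 0x9823cd76fe45ab10, nat_lit 2), (nat_lit 15, nat_lit 0xba98fedc76543210, nat_lit 11), (nat_lit 12, nat_lit 0x9823cd76fe45ab10, nat_lit 11), (nat_lit 5, nat_lit 0x5476ba98dcfe3210, nat_lit 15), (nat_lit 4, nat_lit 0x4567ba98cdef3210, nat_lit 15), (nat_lit 9, nat_lit 0x9823cd76fe45ab10, nat_lit 15), (nat_lit 6, nat_lit 0x5476ba98dcfe3210, nat_lit 12), (nat_lit 7, nat_lit 0x4567ba98cdef3210, nat_lit 12), (nat_lit 8, nat_lit 0xba98fedc76543210, nat_lit 12), (nat_lit 3, nat_lit 0x9823cd76fe45ab10, nat_lit 12), (nat_lit 14, nat_lit 0x4567ba98cdef3210, nat_lit 5), (nat_lit 13, nat_lit 0xba98fedc76543210, nat_lit 9), (nat_lit 10, nat_lit 0x9823cd76fe45ab10, nat_lit 3)], nat_lit 0xfffc, nat_lit 0xdc238976ba45ef10cd238967ba54fe1023fe67ba8954cd1076ba32fe9854dc109823cd76fe45ab109832dc76fe54ba1023ba67fecd54891076fe32badc549810cdba324598ef6710dcba325498fe7610762389dcbaef4510672389cdbafe5410fecdab9876452310fedcba987654321000000000000000000000000000000000,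 nat_lit 0x23fe76ab9845cd1032ef76ab8954cd10dc239867ab54ef109832dc76fe54ba1076ab23fe9845cd1076ba32fe9854dc109867dc23ab54ef10dc769832fe54ba1045efdc762389ba1054fedc763298ba10459876abfe23cd10548976abef32cd10fecdab9876452310fedcba987654321000000000000000000000000000000000⟩
def lev2 : Lev := ⟨nat_lit 8, [nat_lit 0x5476ba98dcfe3210, nat_lit 0x4567ba98cdef3210, nat_lit 0xcdefba9845673210, nat_lit 0xba98fedc76543210], [(nat_lit 12, nat_lit 0xba98fedc76543210, nat_lit 8), (nat_lit 6, nat_lit 0x5476ba98dcfe3210, nat_lit 12), (nat_lit 7, nat_lit 0x4567ba98cdef3210, nat_lit 12), (nat_lit 15, nat_lit 0xcdefba9845673210, nat_lit 12), (nat_lit 13, nat_lit 0x4567ba98cdef3210, nat_lit 6), (nat_lit 5, nat_lit 0xcdefba9845673210, nat_lit 6), (nat_lit 4, nat_lit 0xcdefba9845673210, nat_lit 7), (nat_lit 11, nat_lit 0xba98fedc76543210, nat_lit 15), (nat_lit 14, nat_lit 0xcdefba9845673210, nat_lit 13), (nat_lit 9, nat_lit 0xba98fedc76543210, nat_lit 13), (nat_lit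 10, nat_lit 0xba98fedc76543210, nat_lit 14)], nat_lit 0xfff0, nat_lit 0xba98cdef45673210ba98dcfe54763210ba98efcd67453210ba98fedc76543210fedc89ab45673210fedc98ba54763210fedcab8967453210fedcba9876543210ba984567cdef3210ba985476dcfe3210ba986745efcd3210ba987654fedc32100000000000000000000000000000000000000000000000000000000000000000, nat_lit 0x89abfedc4567321098bafedc54763210ab89fedc67453210ba98fedc76543210fedc89ab45673210fedc98ba54763210fedcab8967453210fedcba98765432104567fedc89ab32105476fedc98ba32106745fedcab8932107654fedcba9832100000000000000000000000000000000000000000000000000000000000000000⟩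
def lev3 : Lev := ⟨nat_lit 4, [nat_lit 0x5476ba98dcfe3210, nat_lit 0x4567ba98cdef3210, nat_lit 0xcdefba9845673210], [(nat_lit 14, nat_lit 0x5476ba98dcfe3210, nat_lit 4), (nat_lit 15, nat_lit 0x4567ba98cdef3210, nat_lit 4), (nat_lit 7, nat_lit 0xcdefba9845673210, nat_lit 4), (nat_lit 5, nat_lit 0x4567ba98cdef3210, nat_lit 14), (nat_lit 13, nat_lit 0xcdefba9845673210, nat_lit 14), (nat_lit 12, nat_lit 0xcdefba9845673210, nat_lit 15), (nat_lit 6, nat_lit 0xcdefba9845673210, nat_lit 5)], nat_lit 0xf0f0, nat_lit 0x4567ba98cdef32105476ba98dcfe32106745ba98efcd32107654ba98fedc32100000000000000000000000000000000000000000000000000000000000000000cdefba9845673210dcfeba9854763210efcdba9867453210fedcba98765432100000000000000000000000000000000000000000000000000000000000000000, nat_lit 0x4567ba98cdef32105476ba98dcfe32106745ba98efcd32107654ba98fedc32100000000000000000000000000000000000000000000000000000000000000000cdefba9845673210dcfeba9854763210efcdba9867453210fedcba98765432100000000000000000000000000000000000000000000000000000000000000000⟩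
def levels : List Lev := [lev0, lev1, lev2, lev3]

theorem valid : allL (validC (2 ^ 4) 4 15 idc16) T = true := by decide +kernel

theorem check : checkAll (2 ^ 4) 4 15 64 0xffffffffffffffff idc16 T prog levels = true := by decide +kernel

def targets : List (List Nat) := []
def cert : StepCert where
  N := nat_lit 1
  b := nat_lit 1
  bm := nat_lit 1
  U := nat_lit 0xfedcba9876543210
  V := nat_lit 0xfedcba9876543210
  tabsA := [(nat_lit 0xcb8f9eda61253470, nat_lit 0x0), (nat_lit 0xb27ed4183af65c90, nat_lit 0x0)]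
  tabsL := [(nat_lit 0xcb8f9eda61253470, nat_lit 0x0), (nat_lit 0xb27ed4183af65c90, nat_lit 0x0)]
  rt := nat_lit 0x0
  par := nat_lit 0x0
  gi := nat_lit 0x0
  rootMask := nat_lit 0x0
  roots := []

theorem stepc : stepCheck (2 ^ 4) 4 15 64 0xffffffffffffffff idc16 levels targets T cert = true := by decide +kernel

theorem order : orderC levels = 20160 := by decide +kernel

theorem self : Nat.card (HV T) = 2520 → HV T = HV Amb.TA := fun h => by
  rw [card_of_check valid check, order] at h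
  norm_num at h

theorem pc : Pc Amb.gA Amb.TA T := by
  refine pc_of_step valid check stepc (by decide +kernel) self ?_
  intro t ht

  simp [targets] at ht

end Cfsg.Agent.Lib.OverLat.V16.M00
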