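import Cfsg.Agent.Lib.OverLat.V16.Common
import Cfsg.Agent.Lib.OverLat.V16.Amb
import Cfsg.Agent.Lib.OverLat.V16.M00

set_option autoImplicit false
set_option linter.unusedSectionVars false
set_option maxRecDepth 1000000

namespace Cfsg.Agent.Lib.OverLat.V16.M01

open Cfsg.Agent.Lib.PermComp.Core Cfsg.Agent.Lib.OverLat.Core Cfsg.Agent.Lib.OverLat.Basic Cfsg.Agent.Lib.OverLat.V16.Common

def T : List Nat := [nat_lit 0xbd17f9538e24ca60, nat_lit 0x4fa17c926d835eb0]
def prog : List (Nat × Nat × Nat) := [(nat_lit 1, nat_lit 1, nat_lit 0), (nat_lit 1, nat_lit 1, nat_lit 0), (nat_lit 0, nat_lit 2, nat_lit 2), (nat_lit 0, nat_lit 0, nat_lit 4), (nat_lit 0, nat_lit 0, nat_lit 5), (nat_lit 0, nat_lit 0, nat_lit 6), (nat_lit 0, nat_lit 0, nat_lit 6), (nat_lit 0, nat_lit 5, nat_lit 6), (nat_lit 0, nat_lit 0, nat_lit 6), (nat_lit 0, nat_lit 0, nat_lit 7), (nat_lit 0, nat_lit 0, nat_lit 3), (nat_lit 0, nat_lit 12, nat_lit 12), (nat_lit 0, nat_lit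 0, nat_lit 13), (nat_lit 0, nat_lit 0, nat_lit 14), (nat_lit 0, nat_lit 0, nat_lit 14), (nat_lit 0, nat_lit 0, nat_lit 15), (nat_lit 0, nat_lit 0, nat_lit 17), (nat_lit 0, nat_lit 0, nat_lit 18), (nat_lit 0, nat_lit 0, nat_lit 19), (nat_lit 0, nat_lit 0, nat_lit 19), (nat_lit 0, nat_lit 0, nat_lit 21), (nat_lit 0, nat_lit 0, nat_lit 22), (nat_lit 0, nat_lit 21, nat_lit 0), (nat_lit 1, nat_lit 12, nat_lit 0), (nat_lit 1, nat_lit 1, nat_lit 0), (nat_lit 0, nat_lit 0, nat_lit 1), (nat_lit 0, nat_lit 15, nat_lit 15), (nat_lit 0, nat_lit 0, nat_lit 4), (nat_lit 0, nat_lit 0, nat_lit 5), (nat_lit 0, nat_lit 0, nat_lit 18), (nat_lit 0, nat_lit 0, nat_lit 19), (nat_lit 0, nat_lit 0, nat_lit 8), (nat_lit 0, nat_lit 0, nat_lit 21), (nat_lit 0, nat_lit 0, nat_lit 22), (nat_lit 0, nat_lit 0, nat_lit 23), (nat_lit 0, nat_lit 0, nat_lit 12), (nat_lit 0, nat_lit 0, nat_lit 25), (nat_lit 0, nat_lit 11, nat_lit 0), (nat_lit 0, nat_lit 13, nat_lit 13),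 (nat_lit 0, nat_lit 16, nat_lit 28), (nat_lit 0, nat_lit 0, nat_lit 29), (nat_lit 0, nat_lit 0, nat_lit 18), (nat_lit 0, nat_lit 0, nat_lit 31), (nat_lit 0, nat_lit 0, nat_lit 20), (nat_lit 0, nat_lit 0, nat_lit 33), (nat_lit 0, nat_lit 0, nat_lit 22), (nat_lit 0, nat_lit 7, nat_lit 0)]
def lev0 : Lev := ⟨nat_lit 1, [nat_lit 0x7654fedcba983210, nat_lit 0xdcfe89ab67453210, nat_lit 0xfe32458967abdc10, nat_lit 0xbd17f9538e24ca60], [(nat_lit 6, nat_lit 0xbd17f9538e24ca60, nat_lit 1), (nat_lit 10, nat_lit 0x7654fedcba983210, nat_lit 6), (nat_lit 7, nat_lit 0xdcfe89ab67453210, nat_lit 6), (nat_lit 14, nat_lit 0xbd17f9538e24ca60, nat_lit 6), (nat_lit 9, nat_lit 0xdcfe89ab67453210, nat_lit 10), (nat_lit 5, nat_lit 0xfe32458967abdc10, nat_lit 10), (nat_lit 11, nat_lit 0x7654fedcba983210, nat_lit 7), (nat_lit 8, nat_lit 0xbd17f9538e24ca60, nat_lit 7), (nat_lit 12, nat_lit 0xdcfe89ab67453210, nat_lit 14), (nat_lit 13, nat_lit 0xbd17f9538e24ca60,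 nat_lit 14), (nat_lit 4, nat_lit 0xdcfe89ab67453210, nat_lit 5), (nat_lit 2, nat_lit 0xbd17f9538e24ca60, nat_lit 5), (nat_lit 15, nat_lit 0x7654fedcba983210, nat_lit 11), (nat_lit 3, nat_lit 0xbd17f9538e24ca60, nat_lit 8)], nat_lit 0xfffe, nat_lit 0x4b1e96c3782da5f0f168b52c3da479e0b6e3f2a7c19485d0d17b842e3f956ac0c71a5e83f4296db0f51b7d93c6284ea0d4186fa3e72b5c903b6e194cf7a2d5808f16da43bc25e970bd17f9538e24ca60fa14638d27c9be50d91573bf26ea8c40cfed6547b89a1230b964ec31a875fd20fedcba98765432100000000000000000, nat_lit 0x1c49e3b67a2f85d0f168b52c3da479e0bd17f9538e24ca6068f1c25bd34a79e07a2f1c49e3b685d0f2a7c194b6e385d0a7f2491c6b3e85d07c38e5a16d29f4b0e3b67a2f1c4985d0b6e3f2a7c19485d0f2853e496b1ca7d085f294e3b6c1a7d0edcf74568ba912303b2af7e65d4c9180fedcba98765432100000000000000000⟩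
def lev1 : Lev := ⟨nat_lit 2, [nat_lit 0x7654fedcba983210, nat_lit 0xdcfe89ab67453210, nat_lit 0xfe32458967abdc10], [(nat_lit 12, nat_lit 0xfe32458967abdc10, nat_lit 2), (nat_lit 4, nat_lit 0x7654fedcba983210, nat_lit 12), (nat_lit 14, nat_lit 0xdcfe89ab67453210, nat_lit 12), (nat_lit 8, nat_lit 0x7654fedcba983210, nat_lit 4), (nat_lit 5, nat_lit 0xdcfe89ab67453210, nat_lit 4), (nat_lit 11, nat_lit 0xfe32458967abdc10, nat_lit 4), (nat_lit 6, nat_lit 0x7654fedcba983210, nat_lit 14), (nat_lit 9, nat_lit 0xfe32458967abdc10, nat_lit 8), (nat_lit 10, nat_lit 0xfe32458967abdc10, nat_lit 5), (nat_lit 15, nat_lit 0x7654fedcba983210, nat_lit 11), (nat_lit 7, nat_lit 0xdcfe89ab67453210, nat_lit 6), (nat_lit 13, nat_lit 0x7654fedcba983210, nat_lit 9), (nat_lit 3, nat_lit 0xfe32458967abdc10, nat_lit 13)], nat_lit 0xfffc, nat_lit 0xab54dc239867ef10dc3254ba7698fe10895423fe67bacd10fe32458967abdc1067dc982354efab1076dc45ef8923ba1045dc23baef768910ba32cd45ef6798104532abdc89fe6710543298febadc76106732baef98cd4510763289cdabef541098abcdfe76452310fedcba987654321000000000000000000000000000000000,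 nat_lit 0x23baef7645dc891032fe985476badc10982354ef67dcab10fe32458967abdc1045dc23baef76891089dc3267feab451067dc982354efab1067abfe324589dc105498ab6723efdc10985476ba32fedc108945ba76ef23dc10458967abfe32dc1098abcdfe76452310fedcba987654321000000000000000000000000000000000⟩
def lev2 : Lev := ⟨nat_lit 4, [nat_lit 0x7654fedcba983210, nat_lit 0xdcfe89ab67453210], [(nat_lit 8, nat_lit 0x7654fedcba983210, nat_lit 4), (nat_lit 5, nat_lit 0xdcfe89ab67453210, nat_lit 4), (nat_lit 12, nat_lit 0x7654fedcba983210, nat_lit 8), (nat_lit 11, nat_lit 0xdcfe89ab67453210, nat_lit 8), (nat_lit 9, nat_lit 0x7654fedcba983210, nat_lit 5), (nat_lit 14, nat_lit 0xdcfe89ab67453210, nat_lit 12), (nat_lit 15, nat_lit 0x7654fedcba983210, nat_lit 11), (nat_lit 13, nat_lit 0x7654fedcba983210, nat_lit 9), (nat_lit 10, nat_lit 0xdcfe89ab67453210, nat_lit 9), (nat_lit 6, nat_lit 0x7654fedcba983210, nat_lit 14), (nat_lit 7, nat_lit 0x7654fedcba983210, nat_lit 15)], nat_lit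 0xfff0, nat_lit 0xab895476cdef321089ab6745dcfe321098ba4567efcd3210ba987654fedc32106745dcfe89ab32104567efcd98ba32105476cdefab8932107654fedcba983210efcd98ba45673210cdefab8954763210dcfe89ab67453210fedcba98765432100000000000000000000000000000000000000000000000000000000000000000, nat_lit 0x4567efcd98ba32105476cdefab8932106745dcfe89ab32107654fedcba98321098ba4567efcd3210ab895476cdef321089ab6745dcfe3210ba987654fedc3210efcd98ba45673210cdefab8954763210dcfe89ab67453210fedcba98765432100000000000000000000000000000000000000000000000000000000000000000⟩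
def levels : List Lev := [lev0, lev1, lev2]

theorem valid : allL (validC (2 ^ 4) 4 15 idc16) T = true := by decide +kernel

theorem check : checkAll (2 ^ 4) 4 15 64 0xffffffffffffffff idc16 T prog levels = true := by decide +kernel

def targets : List (List Nat) := [M00.T]
def cert : StepCert where
  N := nat_lit 8
  b := nat_lit 3
  bm := nat_lit 7
  U := nat_lit 0xc6d79382e4f5b1a043bc16e9da258f70b46978a5e13c2df0a76b94582fe31cd0f41ac7296d835eb0db719f358e24ca60efcdab8976543210fedcba9876543210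
  V := nat_lit 0x57df31b9ce46a820297cd6831a4fe5b01724f9cabd8e53606512cfb8ed9a4730f26b1c85a73e49d0a6f3e2b7d18495c0efcdab8976543210fedcba9876543210
  tabsA := [(nat_lit 0xcb8f9eda61253470, nat_lit 0x23b972), (nat_lit 0xb27ed4183af65c90, nat_lit 0x973439)]
  tabsL := [(nat_lit 0xbd17f9538e24ca60, nat_lit 0xcfca50), (nat_lit 0x4fa17c926d835eb0, nat_lit 0xa8fd18)]
  rt := nat_lit 0x249248
  par := nat_lit 0x8da240
  gi := nat_lit 0x241200
  rootMask := nat_lit 0x2
  roots := [(nat_lit 1, nat_lit 0, [nat_lit 0x5949b699, nat_lit 0x268b451])]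

theorem stepc : stepCheck (2 ^ 4) 4 15 64 0xffffffffffffffff idc16 levels targets T cert = true := by decide +kernel

theorem order : orderC levels = 2520 := by decide +kernel

theorem self : Nat.card (HV T) = 2520 → HV T = HV Amb.TA := fun _ => by
  rfl

theorem pc : Pc Amb.gA Amb.TA T := by
  refine pc_of_step valid check stepc (by decide +kernel) self ?_
  intro t ht

  simp only [targets, List.mem_cons, List.not_mem_nil, or_false] at ht
  rcases ht with rfl
  · exact M00.pc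

end Cfsg.Agent.Lib.OverLat.V16.M01
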