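import Cfsg.Agent.Lib.OverLat.V16.Common
import Cfsg.Agent.Lib.OverLat.V16.Amb
import Cfsg.Agent.Lib.OverLat.V16.M00

set_option autoImplicit false
set_option linter.unusedSectionVars false
set_option maxRecDepth 1000000

namespace Cfsg.Agent.Lib.OverLat.V16.M02

open Cfsg.Agent.Lib.PermComp.Core Cfsg.Agent.Lib.OverLat.Core Cfsg.Agent.Lib.OverLat.Basic Cfsg.Agent.Lib.OverLat.V16.Common

def T : List Nat := [nat_lit 0x67dcef542398ab10, nat_lit 0x23bacd5467fe8910]
def prog : List (Nat × Nat × Nat) := [(nat_lit 1, nat_lit 1, nat_lit 0), (nat_lit 1, nat_lit 1, nat_lit 0), (nat_lit 0, nat_lit 2, nat_lit 2), (nat_lit 0, nat_lit 0, nat_lit 4), (nat_lit 0, nat_lit 0, nat_lit 5), (nat_lit 0, nat_lit 0, nat_lit 6), (nat_lit 0, nat_lit 0, nat_lit 6), (nat_lit 0, nat_lit 8, nat_lit 8), (nat_lit 0, nat_lit 0, nat_lit 9), (nat_lit 0, nat_lit 0, nat_lit 10), (nat_lit 0, nat_lit 0, nat_lit 10), (nat_lit 0, nat_lit 0, nat_lit 11), (nat_lit 0, nat_lit 0, nat_lit 13), (nat_lit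 0, nat_lit 0, nat_lit 14), (nat_lit 0, nat_lit 0, nat_lit 15), (nat_lit 0, nat_lit 0, nat_lit 15), (nat_lit 0, nat_lit 0, nat_lit 17), (nat_lit 0, nat_lit 0, nat_lit 18), (nat_lit 0, nat_lit 17, nat_lit 17), (nat_lit 0, nat_lit 0, nat_lit 18), (nat_lit 0, nat_lit 0, nat_lit 18), (nat_lit 0, nat_lit 0, nat_lit 3), (nat_lit 0, nat_lit 23, nat_lit 22), (nat_lit 0, nat_lit 0, nat_lit 24), (nat_lit 0, nat_lit 0, nat_lit 25), (nat_lit 0, nat_lit 24, nat_lit 23), (nat_lit 0, nat_lit 0, nat_lit 24), (nat_lit 0, nat_lit 0, nat_lit 2), (nat_lit 1, nat_lit 21, nat_lit 0), (nat_lit 1, nat_lit 7, nat_lit 0), (nat_lit 1, nat_lit 2, nat_lit 0), (nat_lit 0, nat_lit 0, nat_lit 2), (nat_lit 0, nat_lit 25, nat_lit 10), (nat_lit 0, nat_lit 0, nat_lit 26), (nat_lit 0, nat_lit 0, nat_lit 6), (nat_lit 0, nat_lit 0, nat_lit 7), (nat_lit 0, nat_lit 0, nat_lit 29), (nat_lit 0, nat_lit 0, nat_lit 9), (nat_lit 0, nat_lit 8, nat_lit 7), (nat_lit 0, nat_lit 0, nat_lit 9), (nat_lit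 0, nat_lit 0, nat_lit 2), (nat_lit 0, nat_lit 13, nat_lit 19), (nat_lit 0, nat_lit 0, nat_lit 20), (nat_lit 0, nat_lit 0, nat_lit 36), (nat_lit 0, nat_lit 0, nat_lit 37), (nat_lit 0, nat_lit 0, nat_lit 17), (nat_lit 0, nat_lit 0, nat_lit 39), (nat_lit 0, nat_lit 0, nat_lit 40), (nat_lit 0, nat_lit 0, nat_lit 20), (nat_lit 0, nat_lit 0, nat_lit 27), (nat_lit 0, nat_lit 0, nat_lit 22), (nat_lit 0, nat_lit 11, nat_lit 0), (nat_lit 0, nat_lit 30, nat_lit 24), (nat_lit 0, nat_lit 0, nat_lit 31), (nat_lit 0, nat_lit 0, nat_lit 32), (nat_lit 0, nat_lit 0, nat_lit 27), (nat_lit 0, nat_lit 0, nat_lit 49), (nat_lit 0, nat_lit 0, nat_lit 50), (nat_lit 0, nat_lit 0, nat_lit 30), (nat_lit 0, nat_lit 0, nat_lit 37), (nat_lit 0, nat_lit 28, nat_lit 0)]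
def lev0 : Lev := ⟨nat_lit 2, [nat_lit 0xba98fedc76543210, nat_lit 0xdcfe98ba76543210, nat_lit 0xcdef89ab76543210, nat_lit 0x7654dcfe98ba3210, nat_lit 0x67dcef542398ab10], [(nat_lit 11, nat_lit 0x67dcef542398ab10, nat_lit 2), (nat_lit 15, nat_lit 0xba98fedc76543210, nat_lit 11), (nat_lit 9, nat_lit 0xdcfe98ba76543210, nat_lit 11), (nat_lit 8, nat_lit 0xcdef89ab76543210, nat_lit 11), (nat_lit 13, nat_lit 0x7654dcfe98ba3210, nat_lit 11), (nat_lit 14, nat_lit 0x67dcef542398ab10, nat_lit 11), (nat_lit 12, nat_lit 0xcdef89ab76543210, nat_lit 15), (nat_lit 7, nat_lit 0x7654dcfe98ba3210, nat_lit 15), (nat_lit 6, nat_lit 0x67dcef542398ab10, nat_lit 15), (nat_lit 10, nat_lit 0xcdef89ab76543210, nat_lit 9), (nat_lit 5, nat_lit 0x67dcef542398ab10, nat_lit 9), (nat_lit 4, nat_lit 0x67dcef542398ab10, nat_lit 8), (nat_lit 3, nat_lit 0x67dcef542398ab10, nat_lit 6)], nat_lit 0xfffc, nat_lit 0x6798ab5423dcef1032dc7698ba54fe10895467ba23fecd1067ab985423efdc1067dcef542398ab1067cdfe542389ba1067fecd5423ba891067efdc5423ab981089fecdba235467103254fe98badc76103267cd98baef45103276dc98bafe5410ab986754efdc2310fedcba987654321000000000000000000000000000000000,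 nat_lit 0x2354abdcef98671032dc7698ba54fe10542398efabdc67104532cdbaef986710abdc2354ef986710bacd3245ef986710dcab5423ef986710cdba4532ef986710dcab98ef23546710ba54769832dcfe1045ab7698cd23fe1054ba7698dc32fe106754efdcab982310fedcba987654321000000000000000000000000000000000⟩
def lev1 : Lev := ⟨nat_lit 4, [nat_lit 0xba98fedc76543210, nat_lit 0xdcfe98ba76543210, nat_lit 0xcdef89ab76543210, nat_lit 0x7654dcfe98ba3210], [(nat_lit 10, nat_lit 0x7654dcfe98ba3210, nat_lit 4), (nat_lit 14, nat_lit 0xba98fedc76543210, nat_lit 10), (nat_lit 8, nat_lit 0xdcfe98ba76543210, nat_lit 10), (nat_lit 9, nat_lit 0xcdef89ab76543210, nat_lit 10), (nat_lit 12, nat_lit 0x7654dcfe98ba3210, nat_lit 10), (nat_lit 13, nat_lit 0xcdef89ab76543210, nat_lit 14), (nat_lit 6, nat_lit 0x7654dcfe98ba3210, nat_lit 14), (nat_lit 11, nat_lit 0xcdef89ab76543210, nat_lit 8), (nat_lit 15, nat_lit 0x7654dcfe98ba3210, nat_lit 9), (nat_lit 5, nat_lit 0x7654dcfe98ba3210, nat_lit 13), (nat_lit 7, nat_lit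 0x7654dcfe98ba3210, nat_lit 15)], nat_lit 0xfff0, nat_lit 0x98ba6745cdef3210765498badcfe32107654ab89efcd321098ba5476fedc32107654cdef89ab32107654dcfe98ba32107654efcdab8932107654fedcba983210fedc89ab4567321098bafedc5476321098bacdef67453210fedcba98765432100000000000000000000000000000000000000000000000000000000000000000, nat_lit 0x4567dcfeab893210547698bafedc32106745ab89fedc32107654dcfe98ba321089ab4567fedc321098ba5476fedc3210ab896745fedc3210ba987654fedc3210fedc89ab45673210ba98dcfe5476321089abdcfe67453210fedcba98765432100000000000000000000000000000000000000000000000000000000000000000⟩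
def lev2 : Lev := ⟨nat_lit 8, [nat_lit 0xba98fedc76543210, nat_lit 0xdcfe98ba76543210, nat_lit 0xcdef89ab76543210], [(nat_lit 12, nat_lit 0xba98fedc76543210, nat_lit 8), (nat_lit 10, nat_lit 0xdcfe98ba76543210, nat_lit 8), (nat_lit 11, nat_lit 0xcdef89ab76543210, nat_lit 8), (nat_lit 14, nat_lit 0xdcfe98ba76543210, nat_lit 12), (nat_lit 15, nat_lit 0xcdef89ab76543210, nat_lit 12), (nat_lit 9, nat_lit 0xcdef89ab76543210, nat_lit 10), (nat_lit 13, nat_lit 0xcdef89ab76543210, nat_lit 14)], nat_lit 0xff00, nat_lit 0x89abcdef7654321098badcfe76543210ab89efcd76543210ba98fedc76543210cdef89ab76543210dcfe98ba76543210efcdab8976543210fedcba987654321000000000000000000000000000000000000000000000000000000000000000000000000000000000000000000000000000000000000000000000000000000000, nat_lit 0x89abcdef7654321098badcfe76543210ab89efcd76543210ba98fedc76543210cdef89ab76543210dcfe98ba76543210efcdab8976543210fedcba987654321000000000000000000000000000000000000000000000000000000000000000000000000000000000000000000000000000000000000000000000000000000000⟩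
def levels : List Lev := [lev0, lev1, lev2]

theorem valid : allL (validC (2 ^ 4) 4 15 idc16) T = true := by decide +kernel

theorem check : checkAll (2 ^ 4) 4 15 64 0xffffffffffffffff idc16 T prog levels = true := by decide +kernel

def targets : List (List Nat) := [M00.T]
def cert : StepCert where
  N := nat_lit 15
  b := nat_lit 4
  bm := nat_lit 15
  U := nat_lit 0x8c9d2637fbea51407a6b4958f2e3c1d04c5d7f6ea2b39180dbca9f8e35247160c3d2a5b48796e1f06c7d82935f4eb1a08b9a6574cfde2130adbc2534e9f86170beafc9d8362741507b6a3f2e9584d1c03d2c7968b5a4f1e02b3ac5d46f7e81906d7ce5f42938a1b0fdecb9a875643120fedcba9876543210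
  V := nat_lit 0x75ce64df8a319b207513cea8fd9b4620a8ce5731b9df4620a8fdecb93164752013df9b5764a8ec2064ce319bdf758a206457ecdf9ba8132057ecdf6413a89b20ce9bfda846137520a831ec75fd64b92031ec75a8b964fd20649bec1357a8df209bec1364dfa85720fdecb9a875643120fedcba9876543210
  tabsA := [(nat_lit 0xcb8f9eda61253470, nat_lit 0x6c90548b1a2d3e7), (nat_lit 0xb27ed4183af65c90, nat_lit 0xb7c92e68a410d53)]
  tabsL := [(nat_lit 0x67dcef542398ab10, nat_lit 0xcde8ba913576420), (nat_lit 0x23bacd5467fe8910, nat_lit 0x42e71dcba986530)]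
  rt := nat_lit 0x111111111111110
  par := nat_lit 0xc98765443221100
  gi := nat_lit 0x11111100101000
  rootMask := nat_lit 0x2
  roots := [(nat_lit 1, nat_lit 0, [nat_lit 0xb49968a, nat_lit 0x4536cb])]

theorem stepc : stepCheck (2 ^ 4) 4 15 64 0xffffffffffffffff idc16 levels targets T cert = true := by decide +kernel

theorem order : orderC levels = 1344 := by decide +kernel

theorem self : Nat.card (HV T) = 2520 → HV T = HV Amb.TA := fun h => by
  rw [card_of_check valid check, order] at h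
  norm_num at h

theorem pc : Pc Amb.gA Amb.TA T := by
  refine pc_of_step valid check stepc (by decide +kernel) self ?_
  intro t ht

  simp only [targets, List.mem_cons, List.not_mem_nil, or_false] at ht
  rcases ht with rfl
  · exact M00.pc

end Cfsg.Agent.Lib.OverLat.V16.M02
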