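import Cfsg.Agent.Lib.OverLat.V16.Common
import Cfsg.Agent.Lib.OverLat.V16.Amb
import Cfsg.Agent.Lib.OverLat.V16.M00

set_option autoImplicit false
set_option linter.unusedSectionVars false
set_option maxRecDepth 1000000

namespace Cfsg.Agent.Lib.OverLat.V16.M03

open Cfsg.Agent.Lib.PermComp.Core Cfsg.Agent.Lib.OverLat.Core Cfsg.Agent.Lib.OverLat.Basic Cfsg.Agent.Lib.OverLat.V16.Common

def T : List Nat := [nat_lit 0x3a18f6d47e5cb290, nat_lit 0xf27a1c94b63e58d0]
def prog : List (Nat × Nat × Nat) := [(nat_lit 1, nat_lit 1, nat_lit 0), (nat_lit 1, nat_lit 1, nat_lit 0), (nat_lit 0, nat_lit 0, nat_lit 0), (nat_lit 0, nat_lit 4, nat_lit 4), (nat_lit 0, nat_lit 0, nat_lit 5), (nat_lit 0, nat_lit 0, nat_lit 6), (nat_lit 0, nat_lit 0, nat_lit 6), (nat_lit 0, nat_lit 0, nat_lit 7), (nat_lit 0, nat_lit 0, nat_lit 9), (nat_lit 0, nat_lit 0, nat_lit 10), (nat_lit 0, nat_lit 0, nat_lit 11), (nat_lit 0, nat_lit 0, nat_lit 11), (nat_lit 0, nat_lit 0, nat_lit 13), (nat_lit 0, nat_lit 0, nat_lit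 14), (nat_lit 0, nat_lit 13, nat_lit 0), (nat_lit 0, nat_lit 16, nat_lit 15), (nat_lit 0, nat_lit 0, nat_lit 17), (nat_lit 0, nat_lit 0, nat_lit 18), (nat_lit 0, nat_lit 15, nat_lit 0), (nat_lit 0, nat_lit 15, nat_lit 19), (nat_lit 0, nat_lit 0, nat_lit 20), (nat_lit 0, nat_lit 0, nat_lit 22), (nat_lit 0, nat_lit 0, nat_lit 23), (nat_lit 0, nat_lit 0, nat_lit 23), (nat_lit 0, nat_lit 0, nat_lit 25), (nat_lit 0, nat_lit 0, nat_lit 26), (nat_lit 0, nat_lit 0, nat_lit 27), (nat_lit 0, nat_lit 0, nat_lit 27), (nat_lit 0, nat_lit 0, nat_lit 29), (nat_lit 0, nat_lit 26, nat_lit 0), (nat_lit 1, nat_lit 15, nat_lit 0), (nat_lit 1, nat_lit 1, nat_lit 0), (nat_lit 0, nat_lit 2, nat_lit 2), (nat_lit 0, nat_lit 0, nat_lit 18), (nat_lit 0, nat_lit 0, nat_lit 4), (nat_lit 0, nat_lit 0, nat_lit 20), (nat_lit 0, nat_lit 5, nat_lit 4), (nat_lit 0, nat_lit 0, nat_lit 1), (nat_lit 0, nat_lit 19, nat_lit 19), (nat_lit 0, nat_lit 0, nat_lit 20), (nat_lit 0, nat_lit 0, nat_lit 21), (nat_lit 0, nat_lit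 0, nat_lit 11), (nat_lit 0, nat_lit 0, nat_lit 23), (nat_lit 0, nat_lit 0, nat_lit 24), (nat_lit 0, nat_lit 0, nat_lit 25), (nat_lit 0, nat_lit 0, nat_lit 30), (nat_lit 0, nat_lit 0, nat_lit 31), (nat_lit 0, nat_lit 0, nat_lit 17), (nat_lit 0, nat_lit 0, nat_lit 33), (nat_lit 0, nat_lit 17, nat_lit 0), (nat_lit 0, nat_lit 35, nat_lit 20), (nat_lit 0, nat_lit 0, nat_lit 32), (nat_lit 0, nat_lit 0, nat_lit 33), (nat_lit 0, nat_lit 0, nat_lit 23), (nat_lit 0, nat_lit 0, nat_lit 35), (nat_lit 0, nat_lit 0, nat_lit 36), (nat_lit 0, nat_lit 0, nat_lit 26), (nat_lit 0, nat_lit 26, nat_lit 0), (nat_lit 0, nat_lit 6, nat_lit 43), (nat_lit 0, nat_lit 0, nat_lit 40), (nat_lit 0, nat_lit 28, nat_lit 0), (nat_lit 0, nat_lit 46, nat_lit 42), (nat_lit 0, nat_lit 0, nat_lit 47), (nat_lit 0, nat_lit 0, nat_lit 33), (nat_lit 0, nat_lit 0, nat_lit 49), (nat_lit 0, nat_lit 0, nat_lit 35), (nat_lit 0, nat_lit 0, nat_lit 36), (nat_lit 0, nat_lit 0, nat_lit 48), (nat_lit 0, nat_lit 0, nat_lit 49),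 (nat_lit 0, nat_lit 0, nat_lit 39), (nat_lit 0, nat_lit 0, nat_lit 51), (nat_lit 0, nat_lit 39, nat_lit 0), (nat_lit 1, nat_lit 22, nat_lit 0), (nat_lit 0, nat_lit 1, nat_lit 1), (nat_lit 0, nat_lit 0, nat_lit 13), (nat_lit 0, nat_lit 0, nat_lit 37), (nat_lit 0, nat_lit 0, nat_lit 38), (nat_lit 0, nat_lit 0, nat_lit 19), (nat_lit 0, nat_lit 0, nat_lit 17), (nat_lit 0, nat_lit 0, nat_lit 41), (nat_lit 0, nat_lit 0, nat_lit 42), (nat_lit 0, nat_lit 0, nat_lit 23), (nat_lit 0, nat_lit 0, nat_lit 10), (nat_lit 0, nat_lit 10, nat_lit 0), (nat_lit 0, nat_lit 23, nat_lit 23), (nat_lit 0, nat_lit 0, nat_lit 27), (nat_lit 0, nat_lit 0, nat_lit 48), (nat_lit 0, nat_lit 0, nat_lit 26), (nat_lit 0, nat_lit 0, nat_lit 30), (nat_lit 0, nat_lit 0, nat_lit 39), (nat_lit 0, nat_lit 0, nat_lit 18)]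
def lev0 : Lev := ⟨nat_lit 1, [nat_lit 0x98badcfe76543210, nat_lit 0xba98fedc76543210, nat_lit 0x7654fedcba983210, nat_lit 0x769854badc32fe10, nat_lit 0x3a18f6d47e5cb290], [(nat_lit 9, nat_lit 0x3a18f6d47e5cb290, nat_lit 1), (nat_lit 15, nat_lit 0x98badcfe76543210, nat_lit 9), (nat_lit 13, nat_lit 0xba98fedc76543210, nat_lit 9), (nat_lit 11, nat_lit 0x769854badc32fe10, nat_lit 9), (nat_lit 7, nat_lit 0x7654fedcba983210, nat_lit 15), (nat_lit 3, nat_lit 0x3a18f6d47e5cb290, nat_lit 15), (nat_lit 5, nat_lit 0x7654fedcba983210, nat_lit 13)], nat_lit 0xaaaa, nat_lit 0x3c1e96b4785ad2f000000000000000003e1cb6947a58f2d00000000000000000f41a7c92d6385eb000000000000000003a18f6d47e5cb29000000000000000003416daf8bc9e527000000000000000003614fad8be9c72500000000000000000b89adefc745612300000000000000000fedcba98765432100000000000000000, nat_lit 0x1c3e94b67a58f2d000000000000000003e1cb6947a58f2d00000000000000000f27a1c94b63e58d00000000000000000b6943e1c7a58f2d0000000000000000094b67a581c3ef2d00000000000000000b6947a583e1cf2d000000000000000009ab8fcde745612300000000000000000fedcba98765432100000000000000000⟩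
def lev1 : Lev := ⟨nat_lit 2, [nat_lit 0x98badcfe76543210, nat_lit 0xba98fedc76543210, nat_lit 0x7654fedcba983210, nat_lit 0x769854badc32fe10], [(nat_lit 14, nat_lit 0x769854badc32fe10, nat_lit 2), (nat_lit 8, nat_lit 0x98badcfe76543210, nat_lit 14), (nat_lit 10, nat_lit 0xba98fedc76543210, nat_lit 14), (nat_lit 6, nat_lit 0x7654fedcba983210, nat_lit 14), (nat_lit 12, nat_lit 0xba98fedc76543210, nat_lit 8), (nat_lit 4, nat_lit 0x769854badc32fe10, nat_lit 10)], nat_lit 0x5554, nat_lit 0x769854badc32fe10000000000000000076ba5498fe32dc10000000000000000076dc54fe9832ba10000000000000000076fe54dcba3298100000000000000000badc98fe543276100000000000000000dc983276bafe54100000000000000000fedcba987654321000000000000000000000000000000000, nat_lit 0x327698dcfeba541000000000000000007632dc98feba5410000000000000000098dc3276feba54100000000000000000dc987632feba5410000000000000000098dcfeba32765410000000000000000054fe76dc9832ba100000000000000000fedcba987654321000000000000000000000000000000000⟩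
def lev2 : Lev := ⟨nat_lit 4, [nat_lit 0x98badcfe76543210, nat_lit 0xba98fedc76543210, nat_lit 0x7654fedcba983210], [(nat_lit 8, nat_lit 0x7654fedcba983210, nat_lit 4), (nat_lit 14, nat_lit 0x98badcfe76543210, nat_lit 8), (nat_lit 12, nat_lit 0xba98fedc76543210, nat_lit 8), (nat_lit 10, nat_lit 0xba98fedc76543210, nat_lit 14), (nat_lit 6, nat_lit 0x7654fedcba983210, nat_lit 14)], nat_lit 0x5550, nat_lit 0x765498badcfe321000000000000000007654ba98fedc321000000000000000007654dcfe98ba321000000000000000007654fedcba9832100000000000000000ba98dcfe547632100000000000000000fedcba98765432100000000000000000000000000000000000000000000000000000000000000000, nat_lit 0x547698bafedc321000000000000000007654ba98fedc3210000000000000000098ba5476fedc32100000000000000000ba987654fedc3210000000000000000098bafedc547632100000000000000000fedcba98765432100000000000000000000000000000000000000000000000000000000000000000⟩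
def lev3 : Lev := ⟨nat_lit 8, [nat_lit 0x98badcfe76543210, nat_lit 0xba98fedc76543210], [(nat_lit 14, nat_lit 0x98badcfe76543210, nat_lit 8), (nat_lit 12, nat_lit 0xba98fedc76543210, nat_lit 8), (nat_lit 10, nat_lit 0xba98fedc76543210, nat_lit 14)], nat_lit 0x5500, nat_lit 0x98badcfe765432100000000000000000ba98fedc765432100000000000000000dcfe98ba765432100000000000000000fedcba987654321000000000000000000000000000000000000000000000000000000000000000000000000000000000000000000000000000000000000000000000000000000000, nat_lit 0x98badcfe765432100000000000000000ba98fedc765432100000000000000000dcfe98ba765432100000000000000000fedcba987654321000000000000000000000000000000000000000000000000000000000000000000000000000000000000000000000000000000000000000000000000000000000⟩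
def levels : List Lev := [lev0, lev1, lev2, lev3]

theorem valid : allL (validC (2 ^ 4) 4 15 idc16) T = true := by decide +kernel

theorem check : checkAll (2 ^ 4) 4 15 64 0xffffffffffffffff idc16 T prog levels = true := by decide +kernel

def targets : List (List Nat) := [M00.T]
def cert : StepCert where
  N := nat_lit 15
  b := nat_lit 4
  bm := nat_lit 15
  U := nat_lit 0x852fe3491cb67ad0c52b6f81d43a7e9043ad25cbf8169e70856b49a7f21c3ed02be74d813af65c90a3e76f2b185cd49085c1e3a7f2b694d061e925adbc34f870236789cdfeba5410c54d6fe7b23a18906b49e3c17a58f2d02fa7c149b63e58d0a3816f4d7e5cb290efcdab8976543210fedcba9876543210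
  V := nat_lit 0xcb16528f34e9ad70a27fc4193be65d8072c98d3614afeb507214c9af8deb36505da2e619c43b7f80ad348f16cb52e9707b1d593f84e2a6c03d8679c21fa45be0768954abcd32ef10a9cf74128bed56303b19e6c47f5da280e41b7d82c6395fa0a6843f1d7b59e2c0efcdab8976543210fedcba9876543210
  tabsA := [(nat_lit 0xcb8f9eda61253470, nat_lit 0x2b413e85c06a97d), (nat_lit 0xb27ed4183af65c90, nat_lit 0xd1526ce38974ba0)]
  tabsL := [(nat_lit 0x3a18f6d47e5cb290, nat_lit 0xced539b7a816420), (nat_lit 0xf27a1c94b63e58d0, nat_lit 0xe284adc6b971530)]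
  rt := nat_lit 0x111111111111110
  par := nat_lit 0xd98665543221100
  gi := nat_lit 0x11101010101000
  rootMask := nat_lit 0x2
  roots := [(nat_lit 1, nat_lit 0, [nat_lit 0x169b453, nat_lit 0x93])]

theorem stepc : stepCheck (2 ^ 4) 4 15 64 0xffffffffffffffff idc16 levels targets T cert = true := by decide +kernel

theorem order : orderC levels = 1344 := by decide +kernel

theorem self : Nat.card (HV T) = 2520 → HV T = HV Amb.TA := fun h => by
  rw [card_of_check valid check, order] at h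
  norm_num at h

theorem pc : Pc Amb.gA Amb.TA T := by
  refine pc_of_step valid check stepc (by decide +kernel) self ?_
  intro t ht

  simp only [targets, List.mem_cons, List.not_mem_nil, or_false] at ht
  rcases ht with rfl
  · exact M00.pc

end Cfsg.Agent.Lib.OverLat.V16.M03
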